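import Groth.Agent.Lib.Smoothing.Neron.Main
import Groth.Agent.Lib.Smoothing.DelocalizePrime

set_option autoImplicit false
set_option backward.isDefEq.respectTransparency false

/-! Separable field extensions are ind-smooth. -/

open MvPolynomial
open scoped TensorProduct

namespace Smoothing.Separable

universe u

/-- separable field extensions are ind-smooth -/
theorem indSmooth_field (k L : Type u) [Field k] [Field L] [Algebra k L]
    [Algebra.IsGeometricallyReduced k L] : IndSmooth k L := by
  classical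
  intro A _ _ hA ψ
  haveI := hA
  obtain ⟨n, θ, hθ, ⟨sq, hsq⟩⟩ := Algebra.FinitePresentation.out (R := k) (A := A)
  let lam : Fin n → L := fun i => ψ (θ (X i))
  obtain ⟨c, f, cols, hf0, hdet, hgen⟩ := Neron.exists_generic (k := k) lam
  have hlam : ∀ x, aeval lam x = ψ (θ x) := by
    intro x
    have : (aeval lam : MvPolynomial (Fin n) k →ₐ[k] L) = ψ.comp θ :=
      MvPolynomial.algHom_ext fun i => aeval_X _ _
    exact AlgHom.congr_fun this x
  let J : Ideal (MvPolynomial (Fin n) k) := Ideal.span (Set.range f)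
  let B₀ := MvPolynomial (Fin n) k ⧸ J
  let mk₀ : MvPolynomial (Fin n) k →ₐ[k] B₀ := Ideal.Quotient.mkₐ k J
  have hJ0 : ∀ x ∈ J, aeval lam x = 0 := fun x hx => by
    have hle : J ≤ RingHom.ker (aeval lam : MvPolynomial (Fin n) k →ₐ[k] L).toRingHom :=
      Ideal.span_le.2 (by rintro _ ⟨i, rfl⟩; exact hf0 i)
    exact hle hx
  let δ₀ : B₀ →ₐ[k] L := Ideal.Quotient.liftₐ J (aeval lam) hJ0
  let q : Ideal B₀ := RingHom.ker δ₀.toRingHom
  haveI : q.IsPrime := RingHom.ker_isPrime _
  haveI : Algebra.FinitePresentation k B₀ :=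
    Algebra.FinitePresentation.quotient ⟨Finset.univ.image f, by simp [J]⟩
  haveI hsm : Algebra.IsSmoothAt k q := by
    refine isSmoothAt_of_kill (B := B₀) f mk₀ Ideal.Quotient.mk_surjective Ideal.mk_ker q
      (Function.Embedding.refl _) cols ?_ fun ℓ => ⟨1, ?_, ?_⟩
    · intro hmem
      apply hdet
      have h1 : (aeval lam).toRingHom (jacobianMinor f id cols) = 0 := hmem
      rw [jacobianMinor, RingHom.map_det] at h1
      exact h1
    · rw [map_one]; exact Ideal.one_notMem _
    · rw [one_mul]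
      exact Ideal.mem_sup_left (Ideal.subset_span ⟨ℓ, rfl⟩)
  obtain ⟨b, hb, hbsm⟩ := Algebra.IsSmoothAt.exists_notMem_smooth k q
  have hkill : ∀ l : sq, ∃ t, aeval lam t ≠ 0 ∧ t * (l : MvPolynomial (Fin n) k) ∈ J := fun l => by
    refine hgen _ ?_
    have : (l : MvPolynomial (Fin n) k) ∈ RingHom.ker θ.toRingHom := hsq ▸ Ideal.subset_span l.2
    rw [hlam, show θ _ = 0 from this, map_zero]
  choose t ht htl using hkill
  let w := b * ∏ l : sq, mk₀ (t l)
  have hwu : IsUnit (δ₀ w) := by
    refine Ne.isUnit ?_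
    rw [map_mul, map_prod]
    exact mul_ne_zero hb (Finset.prod_ne_zero_iff.2 fun l _ => ht l)
  let B := Localization.Away w
  haveI : Algebra.Smooth k B := by
    refine Algebra.basicOpen_subset_smoothLocus_iff_smooth.1 fun p hp => ?_
    exact (Algebra.basicOpen_subset_smoothLocus_iff_smooth.2 hbsm)
      (show b ∉ p.asIdeal from fun h => hp (p.asIdeal.mul_mem_right _ h))
  let δ : B →ₐ[k] L := AlgHom.mk (IsLocalization.Away.lift w hwu) fun r => by
    show IsLocalization.Away.lift w hwu (algebraMap k B r) = _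
    rw [IsScalarTower.algebraMap_apply k B₀ B, IsLocalization.Away.lift_eq]
    exact δ₀.commutes r
  let χ : MvPolynomial (Fin n) k →ₐ[k] B := (IsScalarTower.toAlgHom k B₀ B).comp mk₀
  have hker : RingHom.ker θ.toRingHom ≤ RingHom.ker χ.toRingHom := by
    rw [← hsq, Ideal.span_le]
    intro x hx
    show algebraMap B₀ B (mk₀ x) = 0
    have h1 : w * mk₀ x = 0 := by
      obtain ⟨e, he⟩ : mk₀ (t ⟨x, hx⟩) ∣ ∏ l : sq, mk₀ (t l) :=
        Finset.dvd_prod_of_mem (fun l : sq => mk₀ (t l)) (Finset.mem_univ _)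
      simp only [w]
      rw [he, show b * (mk₀ (t ⟨x, hx⟩) * e) * mk₀ x = b * e * (mk₀ (t ⟨x, hx⟩) * mk₀ x) by ring,
        ← map_mul, show mk₀ (t ⟨x, hx⟩ * x) = 0 from Ideal.Quotient.eq_zero_iff_mem.2 (htl ⟨x, hx⟩),
        mul_zero]
    refine (IsLocalization.Away.algebraMap_isUnit (S := B) w).mul_left_cancel ?_
    rw [← map_mul, h1, map_zero, mul_zero]
  refine ⟨B, inferInstance, inferInstance, inferInstance, AlgHom.liftOfSurjective θ hθ χ hker, δ,
    AlgHom.ext fun a => ?_⟩
  obtain ⟨x, rfl⟩ := hθ a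
  rw [AlgHom.comp_apply, AlgHom.liftOfSurjective_apply]
  show IsLocalization.Away.lift w hwu (algebraMap B₀ B (mk₀ x)) = _
  rw [IsLocalization.Away.lift_eq, ← hlam]
  rfl

/-- change of the target -/
theorem indSmooth_of_algEquiv {R Λ Λ' : Type u} [CommRing R] [CommRing Λ] [Algebra R Λ] [CommRing Λ']
    [Algebra R Λ'] (e : Λ ≃ₐ[R] Λ') (h : IndSmooth R Λ) : IndSmooth R Λ' := by
  intro A _ _ hA f
  obtain ⟨B, _, _, hB, g, k, hgk⟩ := h A hA (e.symm.toAlgHom.comp f)
  refine ⟨B, inferInstance, inferInstance, hB, g, e.toAlgHom.comp k, AlgHom.ext fun a => ?_⟩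
  show e (k (g a)) = f a
  rw [show k (g a) = e.symm (f a) from AlgHom.congr_fun hgk a, e.apply_symm_apply]

/-- change of the base along a bijection -/
theorem indSmooth_of_bijective {S T Λ : Type u} [CommRing S] [CommRing T] [Algebra S T] [CommRing Λ]
    [Algebra S Λ] [Algebra T Λ] [IsScalarTower S T Λ] (hb : Function.Bijective (algebraMap S T))
    (h : IndSmooth S Λ) : IndSmooth T Λ := by
  intro A _ _ hA f
  let e : S ≃ₐ[S] T := AlgEquiv.ofBijective (Algebra.ofId S T) hb
  haveI : Algebra.FinitePresentation S T := Algebra.FinitePresentation.equiv e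
  letI : Algebra S A := ((algebraMap T A).comp (algebraMap S T)).toAlgebra
  haveI : IsScalarTower S T A := IsScalarTower.of_algebraMap_eq fun _ => rfl
  haveI := hA
  obtain ⟨B, _, _, hB, g, k, hgk⟩ :=
    h A (Algebra.FinitePresentation.trans S T A) (f.restrictScalars S)
  letI : Algebra T B := ((algebraMap S B).comp (e.symm.toAlgHom.toRingHom)).toAlgebra
  haveI : IsScalarTower S T B := IsScalarTower.of_algebraMap_eq fun s => by
    show algebraMap S B s = algebraMap S B (e.symm (algebraMap S T s))
    rw [show e.symm (algebraMap S T s) = s from e.symm.commutes s]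
  haveI := hB
  haveI : Algebra.FormallySmooth S T := Algebra.FormallySmooth.of_equiv e
  haveI : Algebra.FormallyUnramified S T := Algebra.FormallyUnramified.of_equiv e
  haveI : Algebra.FormallySmooth T B := Algebra.FormallySmooth.of_restrictScalars S T B
  haveI : Algebra.Smooth T B :=
    ⟨inferInstance, Algebra.FinitePresentation.of_restrict_scalars_finitePresentation S T B⟩
  have hext : ∀ {X Y : Type u} [CommRing X] [CommRing Y] [Algebra S X] [Algebra S Y] [Algebra T X]
      [Algebra T Y] [IsScalarTower S T X] [IsScalarTower S T Y] (l : X →ₐ[S] Y) (t : T),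
      l (algebraMap T X t) = algebraMap T Y t := by
    intro X Y _ _ _ _ _ _ _ _ l t
    obtain ⟨s, rfl⟩ := hb.2 t
    rw [← IsScalarTower.algebraMap_apply, ← IsScalarTower.algebraMap_apply, l.commutes]
  exact ⟨B, inferInstance, inferInstance, inferInstance, AlgHom.mk g.toRingHom (hext g),
    AlgHom.mk k.toRingHom (hext k), AlgHom.ext fun a => AlgHom.congr_fun hgk a⟩

lemma singularIdeal_eq_top (R B : Type u) [CommRing R] [CommRing B] [Algebra R B] [Algebra.Smooth R B] :
    singularIdeal R B = ⊤ := by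
  rw [singularIdeal, Algebra.smoothLocus_eq_univ, Set.compl_univ, PrimeSpectrum.vanishingIdeal_empty]

/-- a local problem with a smooth factorization can be resolved -/
theorem resolvable_of_indSmooth {R A Λ : Type u} [CommRing R] [CommRing A] [Algebra R A]
    [Algebra.FinitePresentation R A] [CommRing Λ] [Algebra R Λ] (φ : A →ₐ[R] Λ) (q : Ideal Λ)
    (hq : q ≠ ⊤) (h : IndSmooth R Λ) : Resolvable R φ q := by
  obtain ⟨B, _, _, hB, g, k, hgk⟩ := h A inferInstance φ
  haveI := hB
  have htop : singRad R k = ⊤ := by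
    rw [singRad, singularIdeal_eq_top R B, Ideal.map_top, Ideal.radical_top]
  exact ⟨B, inferInstance, inferInstance, Algebra.Smooth.finitePresentation, g, k, hgk,
    htop ▸ le_top, fun hle => hq (top_le_iff.1 (htop ▸ hle))⟩

/-- resolution at a minimal prime over a local base with ind-smooth local ring -/
theorem resolvable_of_minimalPrime {R A Λ : Type u} [CommRing R] [IsNoetherianRing R] [CommRing A]
    [Algebra R A] [Algebra.FinitePresentation R A] [CommRing Λ] [Algebra R Λ] (φ : A →ₐ[R] Λ)
    (q : Ideal Λ) [q.IsPrime] (hq : q ∈ minimalPrimes Λ)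
    (hloc : ∀ r, r ∉ q.comap (algebraMap R Λ) → IsUnit r)
    (h : IndSmooth R (Localization.AtPrime q)) : Resolvable R φ q := by
  by_cases hle : singRad R φ ≤ q
  · haveI : IsLocalization.AtPrime R (q.comap (algebraMap R Λ)) := IsLocalization.self hloc
    have hmin : q ∈ (singRad R φ).minimalPrimes :=
      ⟨⟨inferInstance, hle⟩, fun P hP hPq => hq.2 ⟨hP.1, bot_le⟩ hPq⟩
    haveI : Ring.KrullDimLE 0 (Localization.AtPrime q) := by
      rw [Ring.krullDimLE_iff, IsLocalization.AtPrime.ringKrullDim_eq_height q (Localization.AtPrime q),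
        Ideal.height_eq_zero_iff.2 hq]
      rfl
    have hdim : ringKrullDim (Localization.AtPrime q) = 0 :=
      ringKrullDimZero_iff_ringKrullDim_eq_zero.1 inferInstance
    refine resolvable_of_dim_zero (Rₚ := R) (Λq := Localization.AtPrime q) φ q hmin hdim ?_
    refine resolvable_of_indSmooth _ _ ?_ h
    rw [Localization.AtPrime.map_eq_maximalIdeal]
    exact (IsLocalRing.maximalIdeal.isMaximal _).ne_top
  · exact ⟨A, inferInstance, inferInstance, inferInstance, AlgHom.id R A, φ, AlgHom.comp_id φ,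
      le_rfl, hle⟩

end Smoothing.Separable
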