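import Groth.Agent.Lib.Smoothing.Separable.Field
import Groth.Agent.Lib.Smoothing.NilDeform
import Groth.Agent.Lib.RegLoc.Basic
import Groth.Agent.Lib.FibreFlat.RegularFlat
import Mathlib.RingTheory.MvPolynomial.Ideal

set_option autoImplicit false
set_option backward.isDefEq.respectTransparency false

/-! The problem modulo powers of the parameters. -/

open MvPolynomial

namespace Smoothing.Separable

universe u

lemma exists_C_sub_mem_span_X {k : Type u} [CommRing k] {d : ℕ} (p : MvPolynomial (Fin d) k) :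
    ∃ c, p - MvPolynomial.C c ∈ Ideal.span (Set.range (X : Fin d → MvPolynomial (Fin d) k)) := by
  induction p using MvPolynomial.induction_on with
  | C a => exact ⟨a, by simp⟩
  | add p q hp hq =>
    obtain ⟨a, ha⟩ := hp
    obtain ⟨b, hb⟩ := hq
    refine ⟨a + b, ?_⟩
    convert add_mem ha hb using 1
    rw [map_add]; ring
  | mul_X p i hp =>
    exact ⟨0, by rw [map_zero, sub_zero]; exact Ideal.mul_mem_left _ _ (Ideal.subset_span ⟨i, rfl⟩)⟩

variable {k Λ : Type u} [Field k] [CommRing Λ] [Algebra k Λ] {d : ℕ}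
  [Algebra (MvPolynomial (Fin d) k) Λ] [IsScalarTower k (MvPolynomial (Fin d) k) Λ]
  (q : Ideal Λ) [q.IsPrime]

/-- the reduced local ring of a problem with parameters is ind-smooth over the truncated polynomial ring -/
theorem indSmooth_truncated [IsNoetherianRing Λ] [IsRegularLocalRing (Localization.AtPrime q)]
    [Algebra.IsGeometricallyReduced k q.ResidueField]
    (hd : ringKrullDim (Localization.AtPrime q) = d)
    (hspan : Ideal.span (Set.range fun i => algebraMap (MvPolynomial (Fin d) k) (Localization.AtPrime q) (X i)) =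
      IsLocalRing.maximalIdeal (Localization.AtPrime q))
    (K : Ideal (MvPolynomial (Fin d) k))
    (hK : ∀ i : Fin d, (X i : MvPolynomial (Fin d) k) ∈ K.radical)
    (hKX : K ≤ Ideal.span (Set.range X)) :
    IndSmooth (MvPolynomial (Fin d) k ⧸ K) (Localization.AtPrime q ⧸
      K.map (algebraMap (MvPolynomial (Fin d) k) (Localization.AtPrime q))) := by
  let R0 := MvPolynomial (Fin d) k
  let L := Localization.AtPrime q
  let m₀ : Ideal R0 := Ideal.span (Set.range X)
  have hm₀ : m₀.map (algebraMap R0 L) = IsLocalRing.maximalIdeal L := by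
    rw [Ideal.map_span, ← Set.range_comp]
    exact hspan
  have hne : m₀ ≠ ⊤ := fun h => (IsLocalRing.maximalIdeal.isMaximal L).ne_top
    (by rw [← hm₀, h, Ideal.map_top])
  haveI hmax : m₀.IsMaximal := by
    refine Ideal.isMaximal_iff.2 ⟨fun h => hne ((Ideal.eq_top_iff_one _).2 h), fun J x hJ hxm hxJ => ?_⟩
    obtain ⟨c, hc⟩ := exists_C_sub_mem_span_X x
    have hc0 : c ≠ 0 := fun h => hxm (by simpa [h] using hc)
    have h1 : MvPolynomial.C c ∈ J := by simpa using sub_mem hxJ (hJ hc)
    have h2 := J.mul_mem_left (MvPolynomial.C c⁻¹) h1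
    rwa [← map_mul, inv_mul_cancel₀ hc0, map_one] at h2
  haveI : Module.Flat R0 L := by
    have hofList : Ideal.ofList (List.ofFn (X : Fin d → R0)) = m₀ := by
      refine congrArg Ideal.span (Set.ext fun x => ?_)
      simp [List.mem_ofFn]
    refine GrothLib.FibreFlat.flat_of_weaklyRegular (List.ofFn X)
      (GrothLib.FibreFlat.isWeaklyRegular_X k d) ?_ ?_ ?_
    · have h2 := (GrothLib.RegLoc.isRegular_ofFn (R := L) d hd
        (fun i => algebraMap R0 L (X i)) hspan).toIsWeaklyRegular
      rw [← RingTheory.Sequence.isWeaklyRegular_map_algebraMap_iff L L, List.map_ofFn]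
      exact h2
    · intro t ht
      obtain ⟨i, rfl⟩ := List.mem_ofFn.mp ht
      exact hm₀ ▸ Ideal.mem_map_of_mem _ (Ideal.subset_span ⟨i, rfl⟩)
    · rw [hofList]
      exact (Ideal.Quotient.maximal_ideal_iff_isField_quotient _).mp hmax
  let R' := R0 ⧸ K
  let L' := L ⧸ K.map (algebraMap R0 L)
  haveI : Module.Flat R' L' := flat_quotient_map (Λ := L) K
  let I : Ideal R' := m₀.map (Ideal.Quotient.mk K)
  have hI : IsNilpotent I := by
    obtain ⟨N, hN⟩ := Ideal.exists_pow_le_of_le_radical_of_fg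
      (Ideal.span_le.2 (by rintro _ ⟨i, rfl⟩; exact hK i) : m₀ ≤ K.radical) (IsNoetherian.noetherian _)
    exact ⟨N, le_bot_iff.1 (by
      rw [← Ideal.map_pow]
      exact (Ideal.map_mono hN).trans (le_of_eq (Ideal.map_quotient_self K)))⟩
  refine indSmooth_of_nilpotent_flat_deformation I hI ?_
  -- the closed fibre
  let Κ := IsLocalRing.ResidueField L
  haveI : Algebra.IsGeometricallyReduced k Κ :=
    inferInstanceAs (Algebra.IsGeometricallyReduced k q.ResidueField)
  have hbij : Function.Bijective (algebraMap k (R' ⧸ I)) := by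
    refine ⟨?_, fun y => ?_⟩
    · haveI : Nontrivial (R' ⧸ I) := Ideal.Quotient.nontrivial_iff.2 fun h => hne (by
        have h1 : I.comap (Ideal.Quotient.mk K) = ⊤ := by rw [h, Ideal.comap_top]
        rw [Ideal.comap_map_of_surjective _ Ideal.Quotient.mk_surjective, ← RingHom.ker_eq_comap_bot,
          Ideal.mk_ker, sup_eq_left.2 hKX] at h1
        exact h1)
      exact (algebraMap k (R' ⧸ I)).injective
    · obtain ⟨y, rfl⟩ := Ideal.Quotient.mk_surjective y
      obtain ⟨y, rfl⟩ := Ideal.Quotient.mk_surjective y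
      obtain ⟨c, hc⟩ := exists_C_sub_mem_span_X y
      refine ⟨c, (Ideal.Quotient.eq.2 ?_).symm⟩
      show Ideal.Quotient.mk K y - Ideal.Quotient.mk K (algebraMap k R0 c) ∈ I
      rw [← map_sub]
      exact Ideal.mem_map_of_mem _ hc
  haveI : IsScalarTower k (R' ⧸ I) (L' ⧸ I.map (algebraMap R' L')) :=
    IsScalarTower.of_algebraMap_eq (R := k) (S := R' ⧸ I) (A := L' ⧸ I.map (algebraMap R' L'))
      fun c => by
      show Ideal.Quotient.mk (I.map (algebraMap R' L'))
          (Ideal.Quotient.mk (K.map (algebraMap R0 L)) (algebraMap k L c)) =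
        Ideal.Quotient.mk (I.map (algebraMap R' L'))
          (Ideal.Quotient.mk (K.map (algebraMap R0 L)) (algebraMap R0 L (algebraMap k R0 c)))
      rw [← IsScalarTower.algebraMap_apply k R0 L]
  refine indSmooth_of_bijective hbij (indSmooth_of_algEquiv ?_ (indSmooth_field k Κ))
  have hle : I.map (algebraMap R' L') = (IsLocalRing.maximalIdeal L).map (Ideal.Quotient.mk _) := by
    rw [← hm₀, Ideal.map_map, Ideal.map_map]
    rfl
  let f : L' ⧸ I.map (algebraMap R' L') →ₐ[k] Κ := Ideal.Quotient.liftₐ _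
    (Ideal.Quotient.liftₐ (K.map (algebraMap R0 L))
      (Ideal.Quotient.mkₐ k (IsLocalRing.maximalIdeal L)) (fun x hx => by
        refine Ideal.Quotient.eq_zero_iff_mem.2 ?_
        rw [← hm₀]
        exact Ideal.map_mono hKX hx)) (fun x hx => by
      rw [hle] at hx
      obtain ⟨y, hy, rfl⟩ := (Ideal.mem_map_iff_of_surjective _ Ideal.Quotient.mk_surjective).1 hx
      exact Ideal.Quotient.eq_zero_iff_mem.2 hy)
  refine (AlgEquiv.ofBijective f ⟨(injective_iff_map_eq_zero f).2 fun x hx => ?_, fun y => ?_⟩).symm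
  · obtain ⟨x, rfl⟩ := Ideal.Quotient.mk_surjective x
    obtain ⟨x, rfl⟩ := Ideal.Quotient.mk_surjective x
    refine Ideal.Quotient.eq_zero_iff_mem.2 ?_
    rw [hle]
    exact Ideal.mem_map_of_mem _ (Ideal.Quotient.eq_zero_iff_mem.1 hx)
  · obtain ⟨y, rfl⟩ := Ideal.Quotient.mk_surjective y
    exact ⟨Ideal.Quotient.mk _ (Ideal.Quotient.mk _ y), rfl⟩

theorem resolvable_truncated [IsNoetherianRing Λ] [IsRegularLocalRing (Localization.AtPrime q)]
    [Algebra.IsGeometricallyReduced k q.ResidueField]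
    (hd : ringKrullDim (Localization.AtPrime q) = d)
    (hspan : Ideal.span (Set.range fun i => algebraMap (MvPolynomial (Fin d) k) (Localization.AtPrime q) (X i)) =
      IsLocalRing.maximalIdeal (Localization.AtPrime q))
    (K : Ideal (MvPolynomial (Fin d) k))
    (hK : ∀ i : Fin d, (X i : MvPolynomial (Fin d) k) ∈ K.radical)
    (hKX : K ≤ Ideal.span (Set.range X))
    {A : Type u} [CommRing A] [Algebra (MvPolynomial (Fin d) k ⧸ K) A]
    [Algebra.FinitePresentation (MvPolynomial (Fin d) k ⧸ K) A]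
    (φ : A →ₐ[MvPolynomial (Fin d) k ⧸ K] Λ ⧸ K.map (algebraMap (MvPolynomial (Fin d) k) Λ)) :
    Resolvable (MvPolynomial (Fin d) k ⧸ K) φ
      (q.map (Ideal.Quotient.mk (K.map (algebraMap (MvPolynomial (Fin d) k) Λ)))) := by
  let R0 := MvPolynomial (Fin d) k
  let L := Localization.AtPrime q
  let KΛ := K.map (algebraMap R0 Λ)
  have hXq : ∀ i, algebraMap R0 Λ (X i) ∈ q := fun i => by
    have h1 : algebraMap Λ L (algebraMap R0 Λ (X i)) ∈ IsLocalRing.maximalIdeal L := by
      rw [← IsScalarTower.algebraMap_apply, ← hspan]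
      exact Ideal.subset_span ⟨i, rfl⟩
    exact (IsLocalization.AtPrime.to_map_mem_maximal_iff L q _).1 h1
  have hKq : KΛ ≤ q := by
    refine (Ideal.map_mono hKX).trans ?_
    rw [Ideal.map_span, Ideal.span_le]
    rintro _ ⟨_, ⟨i, rfl⟩, rfl⟩
    exact hXq i
  let qb : Ideal (Λ ⧸ KΛ) := q.map (Ideal.Quotient.mk KΛ)
  haveI : qb.IsPrime := Ideal.map_isPrime_of_surjective Ideal.Quotient.mk_surjective
    (by rw [Ideal.mk_ker]; exact hKq)
  have hqb : qb.comap (Ideal.Quotient.mk KΛ) = q := by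
    rw [Ideal.comap_map_of_surjective _ Ideal.Quotient.mk_surjective, ← RingHom.ker_eq_comap_bot,
      Ideal.mk_ker, sup_eq_left.2 hKq]
  have hmin : qb ∈ minimalPrimes (Λ ⧸ KΛ) := by
    refine ⟨⟨inferInstance, bot_le⟩, fun P hP hPq => ?_⟩
    haveI := hP.1
    let P' := P.comap (Ideal.Quotient.mk KΛ)
    haveI : P'.IsPrime := Ideal.IsPrime.comap _
    have hP'q : P' ≤ q := hqb ▸ Ideal.comap_mono hPq
    have hKP : KΛ ≤ P' := fun x hx => by
      show Ideal.Quotient.mk KΛ x ∈ P
      rw [Ideal.Quotient.eq_zero_iff_mem.2 hx]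
      exact P.zero_mem
    have hX : ∀ i, algebraMap R0 Λ (X i) ∈ P' := fun i => by
      obtain ⟨N, hN⟩ := hK i
      refine (inferInstance : P'.IsPrime).mem_of_pow_mem N ?_
      rw [← map_pow]
      exact hKP (Ideal.mem_map_of_mem _ hN)
    have hqP : q ≤ P' := by
      intro y hy
      have h1 : algebraMap Λ L y ∈ P'.map (algebraMap Λ L) := by
        have h2 : IsLocalRing.maximalIdeal L ≤ P'.map (algebraMap Λ L) := by
          rw [← hspan, Ideal.span_le]
          rintro _ ⟨i, rfl⟩
          show algebraMap R0 L (X i) ∈ P'.map (algebraMap Λ L)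
          rw [IsScalarTower.algebraMap_apply R0 Λ L]
          exact Ideal.mem_map_of_mem _ (hX i)
        exact h2 ((IsLocalization.AtPrime.to_map_mem_maximal_iff L q y).2 hy)
      obtain ⟨s, hs, h3⟩ := (IsLocalization.algebraMap_mem_map_algebraMap_iff q.primeCompl L P' y).1 h1
      exact ((inferInstance : P'.IsPrime).mem_or_mem h3).resolve_left fun h => hs (hP'q h)
    intro y hy
    obtain ⟨y, rfl⟩ := Ideal.Quotient.mk_surjective y
    exact hqP (hqb.le (show y ∈ qb.comap _ from hy))
  have hloc : ∀ r, r ∉ qb.comap (algebraMap (R0 ⧸ K) (Λ ⧸ KΛ)) → IsUnit r := by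
    intro r hr
    obtain ⟨y, rfl⟩ := Ideal.Quotient.mk_surjective r
    obtain ⟨c, hc⟩ := exists_C_sub_mem_span_X y
    have hc0 : c ≠ 0 := fun h => hr (by
      rw [h, map_zero, sub_zero] at hc
      show Ideal.Quotient.mk KΛ (algebraMap R0 Λ y) ∈ qb
      refine Ideal.mem_map_of_mem _ ?_
      have h1 : (Ideal.span (Set.range X) : Ideal R0).map (algebraMap R0 Λ) ≤ q := by
        rw [Ideal.map_span, Ideal.span_le]
        rintro _ ⟨_, ⟨i, rfl⟩, rfl⟩
        exact hXq i
      exact h1 (Ideal.mem_map_of_mem _ hc))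
    have hnil : IsNilpotent (Ideal.Quotient.mk K (y - MvPolynomial.C c)) := by
      obtain ⟨N, hN⟩ := (Ideal.span_le.2 (by rintro _ ⟨i, rfl⟩; exact hK i) :
        Ideal.span (Set.range X) ≤ K.radical) hc
      exact ⟨N, by rw [← map_pow]; exact Ideal.Quotient.eq_zero_iff_mem.2 hN⟩
    have hu : IsUnit (Ideal.Quotient.mk K (MvPolynomial.C c)) :=
      ((Ne.isUnit hc0).map MvPolynomial.C).map _
    have h := hnil.isUnit_add_left_of_commute hu (Commute.all _ _)
    rwa [← map_add, add_sub_cancel] at h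
  refine resolvable_of_minimalPrime φ qb hmin hloc ?_
  -- the local ring
  let KL := KΛ.map (algebraMap Λ L)
  haveI hL' : IsLocalization (Algebra.algebraMapSubmonoid (Λ ⧸ KΛ) q.primeCompl) (L ⧸ KL) :=
    inferInstance
  have hsub : Algebra.algebraMapSubmonoid (Λ ⧸ KΛ) q.primeCompl = qb.primeCompl := by
    ext y
    obtain ⟨y, rfl⟩ := Ideal.Quotient.mk_surjective y
    constructor
    · rintro ⟨z, hz, hzy⟩
      show Ideal.Quotient.mk KΛ y ∉ qb
      rw [← hzy]
      exact fun h => hz (hqb.le (show z ∈ qb.comap _ from h))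
    · intro hy
      exact ⟨y, fun h => hy (Ideal.mem_map_of_mem _ h), rfl⟩
  haveI : IsLocalization qb.primeCompl (L ⧸ KL) := hsub ▸ hL'
  have hKL : K.map (algebraMap R0 L) = KL := by
    show K.map (algebraMap R0 L) = (K.map (algebraMap R0 Λ)).map (algebraMap Λ L)
    rw [Ideal.map_map, ← IsScalarTower.algebraMap_eq]
  let e₀ : (L ⧸ K.map (algebraMap R0 L)) ≃+* (L ⧸ KL) := Ideal.quotEquivOfEq hKL
  let e₁ := (IsLocalization.algEquiv qb.primeCompl (L ⧸ KL) (Localization.AtPrime qb)).toRingEquiv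
  let e : (L ⧸ K.map (algebraMap R0 L)) ≃ₐ[R0 ⧸ K] Localization.AtPrime qb :=
    AlgEquiv.ofRingEquiv (f := e₀.trans e₁) fun r => by
      obtain ⟨r, rfl⟩ := Ideal.Quotient.mk_surjective r
      show e₁ (Ideal.Quotient.mk KL (algebraMap R0 L r)) = _
      rw [IsScalarTower.algebraMap_apply R0 Λ L]
      exact (IsLocalization.algEquiv qb.primeCompl (L ⧸ KL) (Localization.AtPrime qb)).commutes
        (Ideal.Quotient.mk KΛ (algebraMap R0 Λ r))
  exact indSmooth_of_algEquiv e (indSmooth_truncated q hd hspan K hK hKX)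

end Smoothing.Separable
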