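import Groth.Agent.Lib.Smoothing.Separable.Model
import Groth.Agent.Lib.Smoothing.Separable.Quotient
import Groth.Agent.Lib.Smoothing.Parameters

set_option autoImplicit false
set_option backward.isDefEq.respectTransparency false

/-! Resolution at a regular point with separable residue field. -/

open MvPolynomial

namespace Smoothing.Separable

universe u

/-- a variable is regular modulo powers of the other variables -/
lemma mul_X_pow_mem_cancel {k : Type u} [CommRing k] {d : ℕ} {ι : Type} (v : ι → Fin d) (e : ℕ)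
    (i : Fin d) (hi : ∀ j, v j ≠ i) (m : ℕ) (f : MvPolynomial (Fin d) k)
    (hf : X i ^ m * f ∈ Ideal.span (Set.range fun j => (X (v j) : MvPolynomial (Fin d) k) ^ e)) :
    f ∈ Ideal.span (Set.range fun j => (X (v j) : MvPolynomial (Fin d) k) ^ e) := by
  classical
  have hrw : (Set.range fun j => (X (v j) : MvPolynomial (Fin d) k) ^ e) =
      (fun s => monomial s 1) '' (Set.range fun j => Finsupp.single (v j) e) := by
    rw [← Set.range_comp]
    exact congrArg Set.range (funext fun j => X_pow_eq_monomial)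
  rw [hrw, mem_ideal_span_monomial_image] at hf ⊢
  intro s hs
  obtain ⟨si, ⟨j, rfl⟩, hle⟩ := hf (Finsupp.single i m + s) (by
    rw [mem_support_iff, X_pow_eq_monomial, coeff_monomial_mul, one_mul]
    exact mem_support_iff.1 hs)
  refine ⟨_, ⟨j, rfl⟩, ?_⟩
  rw [Finsupp.single_le_iff] at hle ⊢
  simpa [Finsupp.single_apply, Ne.symm (hi j)] using hle

lemma ann_of_pow {S : Type u} [CommRing S] (p : S) (J : Ideal S)
    (h : ∀ x, p ^ 2 * x ∈ J → p * x ∈ J) (M : ℕ) (hM : 0 < M) (x : S) (hx : (p ^ M) ^ 2 * x ∈ J) :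
    p ^ M * x ∈ J := by
  have key : ∀ (l : ℕ) (y : S), p ^ (l + 1) * y ∈ J → p * y ∈ J := fun l => by
    induction l with
    | zero => intro y hy; rwa [zero_add, pow_one] at hy
    | succ l ih =>
      intro y hy
      refine ih y ?_
      have h2 : p ^ 2 * (p ^ l * y) ∈ J := by rw [← mul_assoc, ← pow_add, add_comm]; exact hy
      have h3 := h _ h2
      rwa [← mul_assoc, ← pow_succ'] at h3
  obtain ⟨M, rfl⟩ : ∃ M', M = M' + 1 := ⟨M - 1, by omega⟩
  rw [← pow_mul, show (M + 1) * 2 = (2 * M + 1) + 1 by omega] at hx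
  rw [pow_succ, mul_assoc]
  exact J.mul_mem_left _ (key _ x hx)

theorem resolvable {k A Λ : Type u} [Field k] [CommRing A]
    [Algebra k A] [Algebra.FinitePresentation k A] [CommRing Λ] [Algebra k Λ] [IsNoetherianRing Λ]
    (φ : A →ₐ[k] Λ) (𝔮 : Ideal Λ) [𝔮.IsPrime] (hmin : 𝔮 ∈ (singRad k φ).minimalPrimes)
    [IsRegularLocalRing (Localization.AtPrime 𝔮)]
    [Algebra.IsGeometricallyReduced k 𝔮.ResidueField] : Resolvable k φ 𝔮 := by
  classical
  let L := Localization.AtPrime 𝔮
  haveI : IsNoetherianRing A := Algebra.FiniteType.isNoetherianRing k A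
  obtain ⟨r, a, ha⟩ := Submodule.fg_iff_exists_fin_generating_family.1
    (IsNoetherian.noetherian (singularIdeal k A))
  have haH : ∀ j, a j ∈ singularIdeal k A := fun j => ha ▸ Submodule.subset_span ⟨j, rfl⟩
  let I : Ideal Λ := Ideal.span (Set.range fun j => φ (a j))
  have hI : (singularIdeal k A).map φ = I := by
    rw [← ha]
    show (Ideal.span (Set.range a)).map φ = _
    rw [Ideal.map_span, ← Set.range_comp]
    rfl
  have hrad : IsLocalRing.maximalIdeal L ≤ (I.map (algebraMap Λ L)).radical := by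
    rw [Ideal.radical_eq_sInf]
    refine le_sInf fun P ⟨hP, hPp⟩ => ?_
    haveI := hPp
    let P' := P.comap (algebraMap Λ L)
    haveI : P'.IsPrime := Ideal.IsPrime.comap _
    have hP'q : P' ≤ 𝔮 := fun x hx =>
      (IsLocalization.AtPrime.to_map_mem_maximal_iff L 𝔮 x).1
        (IsLocalRing.le_maximalIdeal hPp.ne_top hx)
    have hle : singRad k φ ≤ P' := by
      rw [singRad, hI, Ideal.IsRadical.radical_le_iff (inferInstance : P'.IsPrime).isRadical]
      exact Ideal.map_le_iff_le_comap.1 hP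
    have hq' : 𝔮 ≤ P' := hmin.2 ⟨inferInstance, hle⟩ hP'q
    rw [← Localization.AtPrime.map_eq_maximalIdeal]
    exact Ideal.map_le_iff_le_comap.2 hq'
  obtain ⟨n₀, hn₀⟩ := Ideal.exists_pow_le_of_le_radical_of_fg hrad (IsNoetherian.noetherian _)
  let n := n₀ + 1
  have hpow : (𝔮 ^ n).map (algebraMap Λ L) ≤ I.map (algebraMap Λ L) := by
    rw [Ideal.map_pow, Localization.AtPrime.map_eq_maximalIdeal]
    exact (Ideal.pow_le_pow_right (Nat.le_succ _)).trans hn₀
  have hdim : ∃ d : ℕ, ringKrullDim L = d :=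
    ⟨(IsLocalRing.maximalIdeal L).spanFinrank, (IsRegularLocalRing.spanFinrank_maximalIdeal).symm⟩
  obtain ⟨d, hd⟩ := hdim
  obtain ⟨C, _, _, _, _, hC, γ, M, hM, hstd, hγ, huniv⟩ := exists_model a haH d n
  haveI := hC
  obtain ⟨π, hspan, hπI, hann⟩ :=
    exists_parameters_exp I 𝔮 n (M * 8) d (Nat.succ_pos _) (by omega) hpow hd
  choose ν hν using fun i => (Submodule.mem_span_range_iff_exists_fun Λ).1 (hπI i)
  let R0 := MvPolynomial (Fin d) k
  letI : Algebra R0 Λ := (aeval π : R0 →ₐ[k] Λ).toRingHom.toAlgebra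
  haveI : IsScalarTower k R0 Λ :=
    IsScalarTower.of_algebraMap_eq fun c => ((aeval π : R0 →ₐ[k] Λ).commutes c).symm
  have hXπ : ∀ i, algebraMap R0 Λ (X i) = π i := fun i => aeval_X π i
  obtain ⟨ψk, hψγ, hψX⟩ := huniv Λ φ π ν fun i => (hν i).symm
  have hψ : ∀ p : R0, ψk (algebraMap R0 C p) = algebraMap R0 Λ p := by
    have : ψk.comp (IsScalarTower.toAlgHom k R0 C) = IsScalarTower.toAlgHom k R0 Λ :=
      MvPolynomial.algHom_ext fun i => (hψX i).trans (hXπ i).symm
    exact fun p => AlgHom.congr_fun this p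
  let ψ : C →ₐ[R0] Λ := AlgHom.mk ψk.toRingHom hψ
  have hspan' : Ideal.span (Set.range fun i => algebraMap R0 L (X i)) = IsLocalRing.maximalIdeal L := by
    rw [← Localization.AtPrime.map_eq_maximalIdeal, ← hspan]
    refine congrArg Ideal.span (congrArg Set.range (funext fun i => ?_))
    rw [IsScalarTower.algebraMap_apply R0 Λ L, hXπ]
  have hπq : ∀ i, π i ∈ 𝔮 := fun i =>
    (IsLocalization.AtPrime.to_map_mem_maximal_iff L 𝔮 _).1 (by
      rw [← Localization.AtPrime.map_eq_maximalIdeal, ← hspan]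
      exact Ideal.subset_span ⟨i, rfl⟩)
  let K : Ideal R0 := Ideal.span (Set.range fun i => (X i ^ M : R0) ^ 8)
  have hKrad : ∀ i : Fin d, (X i : R0) ∈ K.radical := fun i =>
    ⟨M * 8, by rw [pow_mul]; exact Ideal.subset_span (s := Set.range fun i => (X i ^ M : R0) ^ 8) ⟨i, rfl⟩⟩
  have hKX : K ≤ Ideal.span (Set.range X) := Ideal.span_le.2 (by
    rintro _ ⟨i, rfl⟩
    exact Ideal.pow_mem_of_mem _ (Ideal.pow_mem_of_mem _ (Ideal.subset_span (Set.mem_range_self i)) M hM) 8
      (by norm_num))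
  haveI : Algebra.FinitePresentation (R0 ⧸ K) (C ⧸ K.map (algebraMap R0 C)) := by
    haveI : Algebra.FiniteType R0 (C ⧸ K.map (algebraMap R0 C)) :=
      Algebra.FiniteType.of_surjective (Ideal.Quotient.mkₐ R0 _) Ideal.Quotient.mk_surjective
    exact Algebra.FinitePresentation.of_finiteType.1
      (Algebra.FiniteType.of_restrictScalars_finiteType R0 (R0 ⧸ K) (C ⧸ K.map (algebraMap R0 C)))
  let φK : (C ⧸ K.map (algebraMap R0 C)) →ₐ[R0 ⧸ K] (Λ ⧸ K.map (algebraMap R0 Λ)) :=
    AlgHom.extendScalarsOfSurjective Ideal.Quotient.mk_surjective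
      (Ideal.Quotient.liftₐ (K.map (algebraMap R0 C)) ((Ideal.Quotient.mkₐ R0 _).comp ψ) fun x hx => by
        refine Ideal.Quotient.eq_zero_iff_mem.2 ?_
        have h1 := Ideal.mem_map_of_mem ψ.toRingHom hx
        rwa [Ideal.map_map, AlgHom.toRingHom_eq_coe, AlgHom.comp_algebraMap] at h1)
  have hres : Resolvable R0 ψ 𝔮 := by
    refine resolvable_mod_pow_eight ψ 𝔮 (fun i => X i ^ M) (fun i => ?_) (fun i x hx => ?_)
      (fun i x hx => ?_) hstd K rfl φK (fun _ => rfl)
      (resolvable_truncated 𝔮 hd hspan' K hKrad hKX φK)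
    · rw [map_pow, hXπ]
      exact Ideal.pow_mem_of_mem _ (hπq i) M hM
    · obtain ⟨x, rfl⟩ := Ideal.Quotient.mk_surjective x
      rw [← map_pow, ← map_mul, Ideal.Quotient.eq_zero_iff_mem] at hx
      rw [← map_mul, Ideal.Quotient.eq_zero_iff_mem]
      simp only [← pow_mul] at hx ⊢
      exact Ideal.mul_mem_left _ _ (mul_X_pow_mem_cancel (fun j : {j : Fin d // (j : ℕ) < i} => j.1)
        (M * 8) i (fun j h => by
          have := j.2
          rw [h] at this
          exact lt_irrefl _ this) (M * 2) x hx)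
    · obtain ⟨x, rfl⟩ := Ideal.Quotient.mk_surjective x
      rw [← map_pow, ← map_mul, Ideal.Quotient.eq_zero_iff_mem] at hx
      rw [← map_mul, Ideal.Quotient.eq_zero_iff_mem]
      simp only [map_pow, hXπ, ← pow_mul] at hx ⊢
      rw [pow_mul (π i) M 2] at hx
      refine ann_of_pow (π i) _ (fun y hy => ?_) M hM x hx
      have h1 := hann i (Ideal.Quotient.mk _ y) (by
        rw [← map_pow, ← map_mul, Ideal.Quotient.eq_zero_iff_mem]; exact hy)
      rwa [← map_mul, Ideal.Quotient.eq_zero_iff_mem] at h1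
  obtain ⟨B, _, _, hB, g, h, hgh, hle, hne⟩ := hres
  haveI := hB
  letI : Algebra k B := ((algebraMap R0 B).comp (algebraMap k R0)).toAlgebra
  haveI : IsScalarTower k R0 B := IsScalarTower.of_algebraMap_eq fun _ => rfl
  have hsing : singularIdeal R0 B ≤ singularIdeal k B := by
    intro x hx
    rw [singularIdeal, PrimeSpectrum.mem_vanishingIdeal] at hx ⊢
    intro p hp
    refine hx p fun hsm => hp ?_
    haveI : Algebra.FormallySmooth R0 (Localization.AtPrime p.asIdeal) := hsm
    exact Algebra.FormallySmooth.comp k R0 _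
  have hh : singRad R0 h ≤ singRad k (h.restrictScalars k) :=
    Ideal.radical_mono (Ideal.map_mono hsing)
  refine ⟨B, inferInstance, inferInstance, Algebra.FinitePresentation.trans k R0 B,
    (g.restrictScalars k).comp γ, h.restrictScalars k, AlgHom.ext fun x => ?_, ?_,
    fun hle' => hne (hh.trans hle')⟩
  · show h (g (γ x)) = φ x
    rw [show h (g (γ x)) = ψ (γ x) from AlgHom.congr_fun hgh _]
    exact AlgHom.congr_fun hψγ x
  · refine le_trans ?_ (hle.trans hh)
    rw [singRad, hI, Ideal.IsRadical.radical_le_iff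
      (show (singRad R0 ψ).IsRadical from Ideal.radical_isRadical _), Ideal.span_le]
    rintro _ ⟨j, rfl⟩
    refine Ideal.le_radical ?_
    have h1 := Ideal.mem_map_of_mem ψ (hγ j)
    rwa [show ψ (γ (a j)) = φ (a j) from AlgHom.congr_fun hψγ _] at h1

end Smoothing.Separable
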