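import Groth.Agent.Lib.Smoothing.Retract
import Groth.Agent.Lib.Smoothing.StdOfFree
import Groth.Agent.Lib.Smoothing.SingularIdeal
import Groth.Agent.Lib.Smoothing.ModPowEight
import Mathlib.LinearAlgebra.Dimension.Free

set_option autoImplicit false
set_option backward.isDefEq.respectTransparency false

/-! The model over a polynomial ring in which powers of the variables are strictly standard. -/

open MvPolynomial

namespace Smoothing.Separable

universe u

variable {k A : Type u} [Field k] [CommRing A] [Algebra k A]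

/-- the equations `x_i^n = ∑ u_{ij} a_j` -/
noncomputable def modelRel {r : ℕ} (a : Fin r → A) (d n : ℕ) (i : Fin d) :
    MvPolynomial (Fin d ⊕ (Fin d × Fin r)) A :=
  X (Sum.inl i) ^ n - ∑ j, MvPolynomial.C (a j) * X (Sum.inr (i, j))

/-- the equations are smooth over the polynomial ring where some coefficient is invertible -/
lemma formallySmooth_model {r : ℕ} (a : Fin r → A) (d n : ℕ) (j₀ : Fin r)
    [Algebra.FormallySmooth k (Localization.Away (a j₀))]
    (B : Type u) [CommRing B] [Algebra (MvPolynomial (Fin d) k) B] [Algebra k B]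
    [IsScalarTower k (MvPolynomial (Fin d) k) B]
    (π : MvPolynomial (Fin d ⊕ (Fin d × Fin r)) A →ₐ[k] B) (hπ : Function.Surjective π)
    (hker : RingHom.ker π.toRingHom = Ideal.span (Set.range (modelRel a d n)))
    (hX : ∀ i, π (X (Sum.inl i)) = algebraMap (MvPolynomial (Fin d) k) B (X i)) :
    Algebra.FormallySmooth (MvPolynomial (Fin d) k)
      (Localization.Away (π (MvPolynomial.C (a j₀)))) := by
  classical
  let R0 := MvPolynomial (Fin d) k
  let P := MvPolynomial (Fin d ⊕ (Fin d × Fin r)) A
  let b := π (MvPolynomial.C (a j₀))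
  let Bb := Localization.Away b
  let Aa := Localization.Away (a j₀)
  refine Algebra.FormallySmooth.iff_comp_surjective.2 fun T _ _ I hI F => ?_
  letI : Algebra k T := ((algebraMap R0 T).comp (algebraMap k R0)).toAlgebra
  haveI : IsScalarTower k R0 T := IsScalarTower.of_algebraMap_eq fun _ => rfl
  let ιA : A →ₐ[k] B := π.comp (IsScalarTower.toAlgHom k A P)
  let jB : B →ₐ[k] Bb := IsScalarTower.toAlgHom k B Bb
  let Fk : Bb →ₐ[k] T ⧸ I := F.restrictScalars k
  have hbu : IsUnit (jB b) := IsLocalization.Away.algebraMap_isUnit (S := Bb) b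
  let fA : Aa →ₐ[k] T ⧸ I :=
    IsLocalization.liftAlgHom (M := Submonoid.powers (a j₀)) (f := (Fk.comp jB).comp ιA) (by
      rintro ⟨_, j, rfl⟩
      rw [map_pow]
      exact (hbu.map Fk).pow j)
  obtain ⟨gA, hgA⟩ := Algebra.FormallySmooth.comp_surjective k Aa I hI fA
  let hA : A →ₐ[k] T := gA.comp (IsScalarTower.toAlgHom k A Aa)
  have hhA : ∀ x, Ideal.Quotient.mk I (hA x) = Fk (jB (π (MvPolynomial.C x))) := fun x =>
    (AlgHom.congr_fun hgA (algebraMap A Aa x)).trans (IsLocalization.lift_eq _ x)
  have hu : IsUnit (hA (a j₀)) :=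
    (IsLocalization.Away.algebraMap_isUnit (S := Aa) (a j₀)).map gA
  choose u₀ hu₀ using fun p : Fin d × Fin r =>
    Ideal.Quotient.mk_surjective (I := I) (Fk (jB (π (X (Sum.inr p)))))
  let inv : T := ↑hu.unit⁻¹
  have hinv : hA (a j₀) * inv = 1 := IsUnit.mul_val_inv hu
  let xT : Fin d → T := fun i => algebraMap R0 T (X i)
  have hxT : ∀ i, Ideal.Quotient.mk I (xT i) = Fk (jB (π (X (Sum.inl i)))) := fun i => by
    rw [hX]
    show _ = F (algebraMap B Bb (algebraMap R0 B (X i)))
    rw [← IsScalarTower.algebraMap_apply R0 B Bb, AlgHom.commutes]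
    rfl
  let uT : Fin d × Fin r → T := fun p =>
    if p.2 = j₀ then inv * (xT p.1 ^ n - ∑ j ∈ Finset.univ.erase j₀, hA (a j) * u₀ (p.1, j))
    else u₀ p
  have hsolve : ∀ i, xT i ^ n = ∑ j, hA (a j) * uT (i, j) := by
    intro i
    rw [← Finset.add_sum_erase _ _ (Finset.mem_univ j₀)]
    have h1 : ∑ j ∈ Finset.univ.erase j₀, hA (a j) * uT (i, j) =
        ∑ j ∈ Finset.univ.erase j₀, hA (a j) * u₀ (i, j) :=
      Finset.sum_congr rfl fun j hj => by
        simp only [uT, Finset.ne_of_mem_erase hj, if_false]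
    rw [h1]
    simp only [uT, if_true]
    rw [← mul_assoc, hinv, one_mul, sub_add_cancel]
  have hrelF : ∀ i, Fk (jB (π (modelRel a d n i))) = 0 := fun i => by
    have : modelRel a d n i ∈ RingHom.ker π.toRingHom := hker ▸ Ideal.subset_span ⟨i, rfl⟩
    rw [show π (modelRel a d n i) = 0 from this, map_zero, map_zero]
  have huT : ∀ p, Ideal.Quotient.mk I (uT p) = Fk (jB (π (X (Sum.inr p)))) := by
    rintro ⟨i, j⟩
    by_cases hj : j = j₀
    · subst hj
      have h1 := hrelF i
      simp only [modelRel, map_sub, map_pow, map_sum, map_mul, sub_eq_zero] at h1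
      have h2 := congrArg (Ideal.Quotient.mk I) (hsolve i)
      simp only [map_pow, map_sum, map_mul, hxT, hhA] at h2
      rw [h1, ← Finset.add_sum_erase _ _ (Finset.mem_univ j),
        ← Finset.add_sum_erase (f := fun l => Fk (jB (π (MvPolynomial.C (a l)))) *
          Ideal.Quotient.mk I (uT (i, l))) _ (Finset.mem_univ j)] at h2
      have h3 : ∀ l ∈ Finset.univ.erase j, Fk (jB (π (MvPolynomial.C (a l)))) *
          Ideal.Quotient.mk I (uT (i, l)) =
          Fk (jB (π (MvPolynomial.C (a l)))) * Fk (jB (π (X (Sum.inr (i, l))))) := fun l hl => by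
        simp only [uT, Finset.ne_of_mem_erase hl, if_false, hu₀]
      rw [Finset.sum_congr rfl h3] at h2
      exact ((hbu.map Fk).mul_left_cancel (add_right_cancel h2)).symm
    · simp only [uT, hj, if_false, hu₀]
  let e : P →+* T := MvPolynomial.eval₂Hom hA.toRingHom (Sum.elim xT uT)
  have heC : ∀ x, e (MvPolynomial.C x) = hA x := fun x => MvPolynomial.eval₂Hom_C _ _ x
  have heX : ∀ v, e (X v) = Sum.elim xT uT v := fun v => MvPolynomial.eval₂Hom_X' _ _ v
  have hle : RingHom.ker π.toRingHom ≤ RingHom.ker e := by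
    rw [hker, Ideal.span_le]
    rintro _ ⟨i, rfl⟩
    show e (modelRel a d n i) = 0
    simp only [modelRel, map_sub, map_pow, map_sum, map_mul, heC, heX, Sum.elim_inl, Sum.elim_inr,
      hsolve, sub_self]
  let eB : B →+* T := RingHom.liftOfSurjective π.toRingHom hπ ⟨e, hle⟩
  have heB : ∀ x, eB (π x) = e x := fun x =>
    RingHom.liftOfRightInverse_comp_apply π.toRingHom _ _ ⟨e, hle⟩ x
  have heBb : IsUnit (eB b) := by rw [heB, heC]; exact hu
  let g : Bb →+* T := IsLocalization.Away.lift b heBb
  have hg : ∀ x, g (algebraMap B Bb x) = eB x := fun x => IsLocalization.Away.lift_eq b heBb x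
  have hR0 : ∀ p : R0, g (algebraMap R0 Bb p) = algebraMap R0 T p := by
    have : g.comp (algebraMap R0 Bb) = algebraMap R0 T := by
      refine MvPolynomial.ringHom_ext (fun c => ?_) (fun i => ?_)
      · show g (algebraMap R0 Bb (MvPolynomial.C c)) = _
        rw [IsScalarTower.algebraMap_apply R0 B Bb, hg, ← MvPolynomial.algebraMap_eq,
          ← IsScalarTower.algebraMap_apply k R0 B, ← π.commutes, heB,
          IsScalarTower.algebraMap_apply k A P, MvPolynomial.algebraMap_eq, heC]
        exact hA.commutes c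
      · show g (algebraMap R0 Bb (X i)) = _
        rw [IsScalarTower.algebraMap_apply R0 B Bb, hg, ← hX, heB, heX]
        rfl
    exact fun p => RingHom.congr_fun this p
  refine ⟨AlgHom.mk g hR0, AlgHom.coe_ringHom_injective ?_⟩
  refine IsLocalization.ringHom_ext (Submonoid.powers b) (RingHom.ext fun x => ?_)
  obtain ⟨p, rfl⟩ := hπ x
  show Ideal.Quotient.mk I (g (algebraMap B Bb (π p))) = F (algebraMap B Bb (π p))
  rw [hg, heB]
  have : (Ideal.Quotient.mk I).comp e =
      (F.toRingHom.comp (algebraMap B Bb)).comp π.toRingHom := by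
    refine MvPolynomial.ringHom_ext (fun x => ?_) (fun v => ?_)
    · show Ideal.Quotient.mk I (e (MvPolynomial.C x)) = _
      rw [heC, hhA]
      rfl
    · show Ideal.Quotient.mk I (e (X v)) = _
      rw [heX]
      rcases v with i | p
      · exact hxT i
      · exact huT p
  exact RingHom.congr_fun this p

/-- A model over the polynomial ring. -/
theorem exists_model [Algebra.FinitePresentation k A] {r : ℕ} (a : Fin r → A)
    (ha : ∀ j, a j ∈ singularIdeal k A) (d n : ℕ) :
    ∃ (C : Type u) (_ : CommRing C) (_ : Algebra (MvPolynomial (Fin d) k) C) (_ : Algebra k C)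
      (_ : IsScalarTower k (MvPolynomial (Fin d) k) C),
      Algebra.FinitePresentation (MvPolynomial (Fin d) k) C ∧
      ∃ (γ : A →ₐ[k] C) (M : ℕ), 0 < M ∧
        (∀ i, IsStrictlyStandard (MvPolynomial (Fin d) k) C
          (algebraMap (MvPolynomial (Fin d) k) C (X i ^ M))) ∧
        (∀ j, γ (a j) ∈ singularIdeal (MvPolynomial (Fin d) k) C) ∧
        ∀ (Λ : Type u) [CommRing Λ] [Algebra k Λ] (φ : A →ₐ[k] Λ) (π : Fin d → Λ)
          (ν : Fin d → Fin r → Λ), (∀ i, π i ^ n = ∑ j, ν i j * φ (a j)) →
          ∃ ψ : C →ₐ[k] Λ, ψ.comp γ = φ ∧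
            ∀ i, ψ (algebraMap (MvPolynomial (Fin d) k) C (X i)) = π i := by
  classical
  let R0 := MvPolynomial (Fin d) k
  let P := MvPolynomial (Fin d ⊕ (Fin d × Fin r)) A
  let J : Ideal P := Ideal.span (Set.range (modelRel a d n))
  let B := P ⧸ J
  let mk : P →ₐ[k] B := Ideal.Quotient.mkₐ k J
  letI : Algebra R0 B :=
    (aeval fun i => mk (X (Sum.inl i)) : R0 →ₐ[k] B).toRingHom.toAlgebra
  haveI : IsScalarTower k R0 B := IsScalarTower.of_algebraMap_eq fun c =>
    ((aeval fun i => mk (X (Sum.inl i)) : R0 →ₐ[k] B).commutes c).symm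
  have hX : ∀ i, mk (X (Sum.inl i)) = algebraMap R0 B (X i) := fun i => by
    show _ = (aeval (fun i => mk (X (Sum.inl i))) : R0 →ₐ[k] B) (X i)
    rw [aeval_X]
  haveI : Algebra.FiniteType k P := Algebra.FiniteType.trans (S := A) inferInstance inferInstance
  have hBft : Algebra.FiniteType k B :=
    Algebra.FiniteType.of_surjective (Ideal.Quotient.mkₐ k J) Ideal.Quotient.mk_surjective
  have hBft' : Algebra.FiniteType R0 B := Algebra.FiniteType.of_restrictScalars_finiteType k R0 B
  haveI : Algebra.FinitePresentation R0 B :=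
    (Algebra.FinitePresentation.of_finiteType (R := R0) (A := P ⧸ J)).1 hBft'
  let ιA : A →ₐ[k] B := mk.comp (IsScalarTower.toAlgHom k A P)
  have hsmB : ∀ j, Algebra.Smooth R0 (Localization.Away (ιA (a j))) := by
    intro j
    haveI : Algebra.Smooth k (Localization.Away (a j)) :=
      Algebra.basicOpen_subset_smoothLocus_iff_smooth.1 fun p hp => by
        by_contra hc
        have h1 := ha j
        rw [singularIdeal, PrimeSpectrum.mem_vanishingIdeal] at h1
        exact hp (h1 p hc)
    haveI : Algebra.FormallySmooth R0 (Localization.Away (ιA (a j))) :=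
      formallySmooth_model a d n j B mk Ideal.Quotient.mk_surjective Ideal.mk_ker hX
    haveI : Algebra.FinitePresentation B (Localization.Away (ιA (a j))) :=
      IsLocalization.Away.finitePresentation (ιA (a j))
    exact ⟨inferInstance, Algebra.FinitePresentation.trans R0 B _⟩
  have haB : ∀ j, ιA (a j) ∈ singularIdeal R0 B := fun j => by
    rw [singularIdeal, PrimeSpectrum.mem_vanishingIdeal]
    intro p hp
    by_contra hc
    exact hp (Algebra.basicOpen_subset_smoothLocus_iff_smooth.2 (hsmB j) hc)
  have hxB : ∀ i, algebraMap R0 B (X i) ∈ singularIdeal R0 B := fun i => by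
    refine isRadical_singularIdeal R0 B ⟨n, ?_⟩
    rw [← hX, ← map_pow]
    have h1 : mk (X (Sum.inl i) ^ n) = mk (∑ j, MvPolynomial.C (a j) * X (Sum.inr (i, j))) :=
      Ideal.Quotient.eq.2 (Ideal.subset_span ⟨i, rfl⟩)
    rw [h1, map_sum]
    refine Submodule.sum_mem _ fun j _ => ?_
    rw [map_mul]
    exact Ideal.mul_mem_right _ _ (haB j)
  -- the retract
  obtain ⟨C, _, _, _, _, hCft, ⟨ret⟩, hC⟩ := exists_retract_free_kaehler (R := R0) (A := B)
  haveI := hCft
  letI : Algebra k C := ((algebraMap R0 C).comp (algebraMap k R0)).toAlgebra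
  haveI : IsScalarTower k R0 C := IsScalarTower.of_algebraMap_eq fun _ => rfl
  haveI : Algebra.FiniteType R0 C := Algebra.FiniteType.trans (S := B) inferInstance inferInstance
  haveI : Algebra.FinitePresentation R0 C := Algebra.FinitePresentation.of_finiteType.1 ‹_›
  have hCb : ∀ b ∈ singularIdeal R0 B, Algebra.Smooth R0 (Localization.Away (algebraMap B C b)) ∧
      Module.Free (Localization.Away (algebraMap B C b))
        Ω[Localization.Away (algebraMap B C b)⁄R0] := by
    intro b hb
    haveI : Algebra.Smooth R0 (Localization.Away b) :=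
      Algebra.basicOpen_subset_smoothLocus_iff_smooth.1 fun p hp => by
        by_contra hc
        rw [singularIdeal, PrimeSpectrum.mem_vanishingIdeal] at hb
        exact hp (hb p hc)
    obtain ⟨h1, h2⟩ := hC b inferInstance
    haveI := h1
    haveI : Algebra.FinitePresentation C (Localization.Away (algebraMap B C b)) :=
      IsLocalization.Away.finitePresentation (algebraMap B C b)
    exact ⟨⟨inferInstance, Algebra.FinitePresentation.trans R0 C _⟩, h2⟩
  have hpow : ∀ i, ∃ e₀, ∀ m, e₀ ≤ m →
      IsStrictlyStandard R0 C (algebraMap R0 C (X i) ^ m) := by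
    intro i
    obtain ⟨h1, h2⟩ := hCb _ (hxB i)
    rw [IsScalarTower.algebraMap_apply R0 B C]
    let c := algebraMap B C (algebraMap R0 B (X i))
    haveI : Algebra.Smooth R0 (Localization.Away c) := h1
    haveI : Module.Free (Localization.Away c) Ω[Localization.Away c⁄R0] := h2
    rcases subsingleton_or_nontrivial (Localization.Away c) with hs | hn
    · haveI : Subsingleton Ω[Localization.Away c⁄R0] := Module.subsingleton (Localization.Away c) _
      exact pow_isStrictlyStandard c 0 0
        (LinearEquiv.ofSubsingleton _ _)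
    · let bs := Module.finBasis (Localization.Away c) Ω[Localization.Away c⁄R0]
      exact pow_isStrictlyStandard c 0 _ ((LinearEquiv.prodUnique ..).trans bs.equivFun)
  choose e₀ he₀ using hpow
  let γ : A →ₐ[k] C :=
    { (algebraMap B C).comp ιA.toRingHom with
      commutes' := fun c => by
        show algebraMap B C (ιA (algebraMap k A c)) = _
        rw [ιA.commutes, IsScalarTower.algebraMap_apply k R0 B, ← IsScalarTower.algebraMap_apply R0 B C]
        rfl }
  refine ⟨C, inferInstance, inferInstance, inferInstance, inferInstance, inferInstance, γ,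
    ∑ i, e₀ i + 1, Nat.succ_pos _, fun i => ?_, fun j => ?_, fun Λ _ _ φ π ν hrel => ?_⟩
  · rw [map_pow]
    exact he₀ i _ ((Finset.single_le_sum (fun i _ => Nat.zero_le (e₀ i)) (Finset.mem_univ i)).trans
      (Nat.le_succ _))
  · rw [singularIdeal, PrimeSpectrum.mem_vanishingIdeal]
    intro p hp
    by_contra hc
    exact hp (Algebra.basicOpen_subset_smoothLocus_iff_smooth.2 (hCb _ (haB j)).1 hc)
  · let ev : P →+* Λ := MvPolynomial.eval₂Hom φ.toRingHom (Sum.elim π fun p => ν p.1 p.2)
    have hJ : ∀ x ∈ J, ev x = 0 := fun x hx => by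
      have hle : J ≤ RingHom.ker ev := Ideal.span_le.2 (by
        rintro _ ⟨i, rfl⟩
        show ev (modelRel a d n i) = 0
        simp only [modelRel, map_sub, map_pow, map_sum, map_mul]
        rw [show ev (X (Sum.inl i)) = π i from MvPolynomial.eval₂Hom_X' _ _ _, hrel, sub_eq_zero]
        refine Finset.sum_congr rfl fun j _ => ?_
        rw [show ev (MvPolynomial.C (a j)) = φ (a j) from MvPolynomial.eval₂Hom_C _ _ _,
          show ev (X (Sum.inr (i, j))) = ν i j from MvPolynomial.eval₂Hom_X' _ _ _, mul_comm])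
      exact hle hx
    let σ : B →+* Λ := Ideal.Quotient.lift J ev hJ
    have hσA : ∀ x, σ (ιA x) = φ x := fun x => MvPolynomial.eval₂Hom_C _ _ x
    let ψ : C →ₐ[k] Λ :=
      { σ.comp ret.toRingHom with
        commutes' := fun c => by
          show σ (ret (algebraMap R0 C (algebraMap k R0 c))) = _
          rw [IsScalarTower.algebraMap_apply R0 B C, ret.commutes]
          show σ (algebraMap R0 B (algebraMap k R0 c)) = _
          rw [← IsScalarTower.algebraMap_apply k R0 B, ← ιA.commutes, hσA, φ.commutes] }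
    refine ⟨ψ, AlgHom.ext fun x => ?_, fun i => ?_⟩
    · show σ (ret (algebraMap B C (ιA x))) = φ x
      rw [ret.commutes]
      exact hσA x
    · show σ (ret (algebraMap R0 C (X i))) = π i
      rw [IsScalarTower.algebraMap_apply R0 B C, ret.commutes]
      show σ (algebraMap R0 B (X i)) = π i
      rw [← hX]
      exact MvPolynomial.eval₂Hom_X' _ _ _

end Smoothing.Separable
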